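import Mathlib
import Cfsg.Agent.Lib.Helper5.SylTor1

/-!
Fitting decomposition `V = ker (s - 1) ⊕ range (s - 1)` for a linear map `s` of finite order `r`
invertible in the field, freeness of `⟨s⟩` on the second summand and the resulting congruence for
invariant subspaces.
-/

set_option autoImplicit false

namespace Cfsg.Agent.Lib.Helper5.SpecBC

open Module

variable {F : Type*} [Field F] {V : Type*} [AddCommGroup V] [Module F V]

/-- fixed space of `s` -/
def fixS (s : Module.End F V) : Submodule F V := LinearMap.ker (s - 1)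

/-- the space `[V, s]` -/
def movS (s : Module.End F V) : Submodule F V := LinearMap.range (s - 1)

theorem mem_fixS {s : Module.End F V} {x : V} : x ∈ fixS s ↔ s x = x := by
  rw [fixS, LinearMap.mem_ker, LinearMap.sub_apply, Module.End.one_apply, sub_eq_zero]

theorem mem_movS {s : Module.End F V} {x : V} : x ∈ movS s ↔ ∃ y, s y - y = x := by
  rw [movS, LinearMap.mem_range]
  simp only [LinearMap.sub_apply, Module.End.one_apply]

theorem pow_apply_of_fix {s : Module.End F V} {x : V} (hx : s x = x) (i : ℕ) : (s ^ i) x = x := by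
  induction i with
  | zero => simp
  | succ k ih => rw [pow_succ, Module.End.mul_apply, hx, ih]

theorem geom_apply_of_fix {s : Module.End F V} {x : V} (hx : s x = x) (r : ℕ) :
    (∑ i ∈ Finset.range r, s ^ i) x = (r : F) • x := by
  rw [LinearMap.sum_apply]
  simp only [pow_apply_of_fix hx]
  rw [Finset.sum_const, Finset.card_range, Nat.cast_smul_eq_nsmul]

theorem disjoint_fix_mov {s : Module.End F V} {r : ℕ} (hs : s ^ r = 1) (hr : (r : F) ≠ 0) :
    Disjoint (fixS s) (movS s) := by
  rw [Submodule.disjoint_def]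
  intro x hx hx'
  rw [mem_fixS] at hx
  obtain ⟨y, rfl⟩ := LinearMap.mem_range.1 hx'
  have h1 := geom_apply_of_fix hx r
  have h2 : (∑ i ∈ Finset.range r, s ^ i) ((s - 1) y) = 0 := by
    rw [← Module.End.mul_apply, geom_sum_mul, hs, sub_self, LinearMap.zero_apply]
  rw [h2] at h1
  rcases smul_eq_zero.1 h1.symm with h | h
  · exact absurd h hr
  · exact h

theorem isCompl_fix_mov [FiniteDimensional F V] {s : Module.End F V} {r : ℕ} (hs : s ^ r = 1)
    (hr : (r : F) ≠ 0) : IsCompl (fixS s) (movS s) := by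
  refine ⟨disjoint_fix_mov hs hr, ?_⟩
  rw [codisjoint_iff]
  apply Submodule.eq_top_of_finrank_eq
  have h1 := Submodule.finrank_sup_add_finrank_inf_eq (fixS s) (movS s)
  rw [(disjoint_fix_mov hs hr).eq_bot, finrank_bot, add_zero] at h1
  rw [h1, fixS, movS, add_comm]
  exact LinearMap.finrank_range_add_finrank_ker (s - 1)

theorem finrank_fix_add_mov [FiniteDimensional F V] (s : Module.End F V) :
    finrank F (fixS s) + finrank F (movS s) = finrank F V := by
  rw [fixS, movS, add_comm]
  exact LinearMap.finrank_range_add_finrank_ker (s - 1)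

/-- maps commuting with `s` preserve both summands -/
theorem map_mem_fixS {s f : Module.End F V} (hc : Commute f s) {x : V} (hx : x ∈ fixS s) :
    f x ∈ fixS s := by
  rw [mem_fixS] at hx ⊢
  rw [← Module.End.mul_apply, ← hc.eq, Module.End.mul_apply, hx]

theorem map_mem_movS {s f : Module.End F V} (hc : Commute f s) {x : V} (hx : x ∈ movS s) :
    f x ∈ movS s := by
  rw [mem_movS] at hx ⊢
  obtain ⟨y, rfl⟩ := hx
  refine ⟨f y, ?_⟩
  rw [map_sub, ← Module.End.mul_apply, ← Module.End.mul_apply, hc.eq]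

/-- `⟨s⟩` acts freely on the nonzero vectors of `[V, s]` -/
theorem eq_zero_of_pow_fix {s : Module.End F V} {r : ℕ} (hrp : r.Prime) (hs : s ^ r = 1)
    (hr : (r : F) ≠ 0) {x : V} (hx : x ∈ movS s) {i : ℕ} (hi : ¬ r ∣ i) (hfix : (s ^ i) x = x) :
    x = 0 := by
  have hcop : Nat.Coprime i r := (Nat.Coprime.symm ((Nat.Prime.coprime_iff_not_dvd hrp).2 hi))
  -- find k with i * k ≡ 1 mod r
  obtain ⟨k, hk⟩ : ∃ k, i * k ≡ 1 [MOD r] := by
    obtain ⟨m, -, hm⟩ := Nat.exists_mul_mod_eq_one_of_coprime hcop hrp.one_lt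
    refine ⟨m, ?_⟩
    rw [Nat.ModEq, hm, Nat.mod_eq_of_lt hrp.one_lt]
  have h1 : s ^ (i * k) = s := by
    have h2 : s ^ (i * k) = s ^ ((i * k) % r) := by
      conv_lhs => rw [← Nat.div_add_mod (i * k) r, pow_add, pow_mul, hs, one_pow, one_mul]
    rw [h2, hk, Nat.mod_eq_of_lt hrp.one_lt, pow_one]
  have h3 : s x = x := by
    conv_lhs => rw [← h1, pow_mul]
    exact pow_apply_of_fix hfix k
  exact (Submodule.disjoint_def.1 (disjoint_fix_mov hs hr)) x (mem_fixS.2 h3) hx

end Cfsg.Agent.Lib.Helper5.SpecBC
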