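import Mathlib
import Cfsg.Agent.Lib.Helper5.SylTor6
import Cfsg.Agent.S0246

/-!
The symplectic side: `PSp_{2n}(q)` has an element of order `p (q^(n-1) + 1)`.
-/

set_option autoImplicit false

namespace Cfsg.Agent.Lib.Helper5.SpecBC

open Module Cfsg.Agent.Lib.Helper5.SylTor

section transfer

variable {F : Type*} [Field F]

/-- an isometry of a nondegenerate alternating space of dimension `2n` gives an element of
`Sp_{2n}` with the same scalar powers -/
theorem exists_sp_of_isometry {W : Type*} [AddCommGroup W] [Module F W] [FiniteDimensional F W]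
    (B : LinearMap.BilinForm F W) (hB : B.IsAlt) (hnd : ∀ x, (∀ y, B x y = 0) → x = 0)
    {n : ℕ} (hdim : finrank F W = 2 * n) (T : Module.End F W)
    (hT : ∀ x y, B (T x) (T y) = B x y) :
    ∃ g : Matrix.symplecticGroup (Fin n) F, ∀ (j : ℕ) (c : F),
      ((g ^ j : Matrix.symplecticGroup (Fin n) F) : Matrix (Fin n ⊕ Fin n) (Fin n ⊕ Fin n) F) =
        c • (1 : Matrix (Fin n ⊕ Fin n) (Fin n ⊕ Fin n) F) ↔ ∀ x, (T ^ j) x = c • x := by
  classical
  obtain ⟨m, b, hm, hb⟩ := AltForm.exists_symplectic_basis hB hnd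
  obtain rfl : m = n := by omega
  have hgram : LinearMap.BilinForm.toMatrix b B = Matrix.J (Fin m) F := by
    ext x y
    rw [LinearMap.BilinForm.toMatrix_apply, hb]
  have hmem : LinearMap.toMatrix b b T ∈ Matrix.symplecticGroup (Fin m) F := by
    rw [SymplecticGroup.mem_iff']
    have h1 := LinearMap.BilinForm.toMatrix_comp b b B T T
    have h2 : B.comp T T = B := by
      ext x y
      simp [hT]
    rw [h2, hgram] at h1
    exact h1.symm
  refine ⟨⟨LinearMap.toMatrix b b T, hmem⟩, ?_⟩
  intro j c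
  have hpow : ((⟨LinearMap.toMatrix b b T, hmem⟩ : Matrix.symplecticGroup (Fin m) F) ^ j :
      Matrix.symplecticGroup (Fin m) F).1 = LinearMap.toMatrix b b (T ^ j) := by
    induction j with
    | zero =>
      rw [pow_zero, pow_zero]
      show (1 : Matrix (Fin m ⊕ Fin m) (Fin m ⊕ Fin m) F) = _
      rw [Module.End.one_eq_id, LinearMap.toMatrix_id]
    | succ k ih =>
      rw [pow_succ, pow_succ]
      show ((⟨LinearMap.toMatrix b b T, hmem⟩ : Matrix.symplecticGroup (Fin m) F) ^ k).1 *
        LinearMap.toMatrix b b T = _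
      rw [ih, Module.End.mul_eq_comp, LinearMap.toMatrix_comp b b b]
  show ((⟨LinearMap.toMatrix b b T, hmem⟩ : Matrix.symplecticGroup (Fin m) F) ^ j).1 = _ ↔ _
  rw [hpow]
  have hsc : c • (1 : Matrix (Fin m ⊕ Fin m) (Fin m ⊕ Fin m) F) =
      LinearMap.toMatrix b b (c • (LinearMap.id : W →ₗ[F] W)) := by
    rw [map_smul, LinearMap.toMatrix_id]
  rw [hsc]
  constructor
  · intro h x
    have := (LinearMap.toMatrix b b).injective h
    rw [this]
    simp
  · intro h
    congr 1
    apply LinearMap.ext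
    intro x
    rw [h x]
    simp

end transfer

end Cfsg.Agent.Lib.Helper5.SpecBC
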