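import Mathlib
import Cfsg.Agent.Lib.Helper2.CDGen

/-!
The linear map of an isometry (as a monoid hom) and existence of a fixed vector for isometries of
determinant one in odd dimension.
-/

set_option autoImplicit false

namespace Cfsg.Agent.Lib.Helper5.SpecBC

open Matrix QuadraticMap Cfsg.Agent.Lib.Helper2.CDG

variable {F : Type*} [Field F] {ι : Type} [Fintype ι] [DecidableEq ι]
variable {Q : QuadraticForm F (ι → F)}

/-- the linear map of an isometry -/
noncomputable def lin (g : ↥(Cfsg.isometryGroup F ⇑Q)) : Module.End F (ι → F) :=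
  Matrix.toLin' ((g : Matrix.GeneralLinearGroup ι F) : Matrix ι ι F)

theorem lin_apply (g : ↥(Cfsg.isometryGroup F ⇑Q)) (x : ι → F) :
    lin g x = ((g : Matrix.GeneralLinearGroup ι F) : Matrix ι ι F) *ᵥ x := by
  rw [lin, Matrix.toLin'_apply]

theorem lin_one : lin (1 : ↥(Cfsg.isometryGroup F ⇑Q)) = 1 := by
  apply LinearMap.ext
  intro x
  rw [lin_apply, one_mulVec', Module.End.one_apply]

theorem lin_mul (g h : ↥(Cfsg.isometryGroup F ⇑Q)) : lin (g * h) = lin g * lin h := by
  apply LinearMap.ext
  intro x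
  rw [lin_apply, mul_mulVec, Module.End.mul_apply, lin_apply, lin_apply]

theorem lin_pow (g : ↥(Cfsg.isometryGroup F ⇑Q)) (k : ℕ) : lin (g ^ k) = lin g ^ k := by
  induction k with
  | zero => rw [pow_zero, pow_zero, lin_one]
  | succ k ih => rw [pow_succ, pow_succ, lin_mul, ih]

theorem lin_injective : Function.Injective (lin : ↥(Cfsg.isometryGroup F ⇑Q) → _) := by
  intro g h hgh
  apply iso_ext
  intro x
  rw [← lin_apply, ← lin_apply, hgh]

theorem lin_Q (g : ↥(Cfsg.isometryGroup F ⇑Q)) (x : ι → F) : Q (lin g x) = Q x := by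
  rw [lin_apply, iso_Q]

theorem lin_commute {g h : ↥(Cfsg.isometryGroup F ⇑Q)} (hc : Commute g h) :
    Commute (lin g) (lin h) := by
  show lin g * lin h = lin h * lin g
  rw [← lin_mul, ← lin_mul, hc.eq]

/-- an isometry of determinant one of a nondegenerate odd-dimensional space fixes a nonzero
vector -/
theorem exists_fixed_of_det_one (hQ : (polarBilin Q).Nondegenerate) (h2 : (2 : F) ≠ 0)
    (hodd : Odd (Fintype.card ι)) (g : ↥(Cfsg.isometryGroup F ⇑Q))
    (hdet : ((g : Matrix.GeneralLinearGroup ι F) : Matrix ι ι F).det = 1) :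
    ∃ x : ι → F, x ≠ 0 ∧ ((g : Matrix.GeneralLinearGroup ι F) : Matrix ι ι F) *ᵥ x = x := by
  set M : Matrix ι ι F := ((g : GL ι F) : Matrix ι ι F) with hM
  set B : Matrix ι ι F := LinearMap.BilinForm.toMatrix' (polarBilin Q) with hB
  have hQM : ∀ v, Q (Matrix.toLin' M v) = Q v := by
    intro v
    rw [Matrix.toLin'_apply]
    exact g.2 v v
  have hpres : ∀ u v, polarBilin Q (Matrix.toLin' M u) (Matrix.toLin' M v) = polarBilin Q u v := by
    intro u v
    show polar Q _ _ = polar Q u v
    simp only [polar, ← map_add, hQM]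
  have hcomp : LinearMap.BilinForm.comp (polarBilin Q) (Matrix.toLin' M) (Matrix.toLin' M) =
      polarBilin Q :=
    LinearMap.BilinForm.ext (fun u v => hpres u v)
  have h1 : M.transpose * B * M = B := by
    have h3 := LinearMap.BilinForm.toMatrix'_comp (polarBilin Q) (Matrix.toLin' M)
      (Matrix.toLin' M)
    rw [LinearMap.toMatrix'_toLin', hcomp] at h3
    exact h3.symm
  have hdetB : B.det ≠ 0 := by
    rw [← Matrix.nondegenerate_iff_det_ne_zero, hB,
      LinearMap.BilinForm.nondegenerate_toMatrix'_iff]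
    exact hQ
  have h3 : M.transpose * B * (M - 1) = -((M - 1).transpose * B) := by
    rw [Matrix.mul_sub, h1, Matrix.mul_one, Matrix.transpose_sub, Matrix.transpose_one,
      Matrix.sub_mul, Matrix.one_mul, neg_sub]
  have h4 := congrArg Matrix.det h3
  rw [Matrix.det_mul, Matrix.det_mul, Matrix.det_transpose, hdet, one_mul, Matrix.det_neg,
    Matrix.det_mul, Matrix.det_transpose, hodd.neg_one_pow] at h4
  have h5 : (M - 1).det = 0 := by
    have h6 : (2 : F) * (B.det * (M - 1).det) = 0 := by linear_combination h4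
    rcases mul_eq_zero.1 h6 with h7 | h7
    · exact absurd h7 h2
    · rcases mul_eq_zero.1 h7 with h8 | h8
      · exact absurd h8 hdetB
      · exact h8
  obtain ⟨v, hv0, hv⟩ := Matrix.exists_mulVec_eq_zero_iff.2 h5
  refine ⟨v, hv0, ?_⟩
  rw [Matrix.sub_mulVec, Matrix.one_mulVec, sub_eq_zero] at hv
  exact hv

end Cfsg.Agent.Lib.Helper5.SpecBC
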