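import Mathlib

set_option autoImplicit false

namespace Cfsg.Agent.Lib.Helper5.SpecBC

/-- parity of the number of long cycles -/
theorem odd_of_cycle_count {w y m k : ℕ} (hw : Even w) (hy : Even y) (hy1 : 1 ≤ y)
    (hcop : Nat.Coprime (y + 2) (w + 1))
    (hk : k = (w + 1) ^ 2 + (w + 1) ∨ k = (w + 1) * w)
    (h : m * (y + 2) + k = (w + 1) ^ 2 * (y + 1) ^ 2 + (w + 1) * (y + 1)) : Odd m := by
  rcases hk with rfl | rfl
  · exfalso
    -- (y+2) ∣ (w+1) * y
    have h1 : (m : ℤ) * (y + 2) = (y + 2) * ((w + 1) ^ 2 * y) + (w + 1) * y := by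
      have := congrArg (Nat.cast : ℕ → ℤ) h
      push_cast at this
      linear_combination this
    have h2 : ((y + 2 : ℕ) : ℤ) ∣ ((w + 1) * y : ℕ) := by
      refine ⟨(m : ℤ) - (w + 1) ^ 2 * y, ?_⟩
      push_cast
      linear_combination -h1
    have h3 : (y + 2) ∣ (w + 1) * y := Int.natCast_dvd_natCast.1 h2
    have h4 : (y + 2) ∣ y := hcop.dvd_of_dvd_mul_left h3
    have := Nat.le_of_dvd (by omega) h4
    omega
  · have h1 : (m : ℤ) * (y + 2) = ((w + 1) ^ 2 * y + (w + 1)) * (y + 2) := by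
      have := congrArg (Nat.cast : ℕ → ℤ) h
      push_cast at this
      linear_combination this
    have h2 : (m : ℤ) = (w + 1) ^ 2 * y + (w + 1) := by
      have h3 : ((y : ℤ) + 2) ≠ 0 := by positivity
      exact mul_right_cancel₀ h3 h1
    have h3 : m = (w + 1) ^ 2 * y + (w + 1) := by exact_mod_cast h2
    rw [h3]
    obtain ⟨a, rfl⟩ := hy
    obtain ⟨b, rfl⟩ := hw
    exact ⟨(b + b + 1) ^ 2 * a + b, by ring⟩

end Cfsg.Agent.Lib.Helper5.SpecBC
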