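import Mathlib
import Cfsg.Prelude.Def_Classical
import Cfsg.Agent.Lib.Helper1.QuadCount

/-!
The number of vectors with `x₀² + Σ xᵢyᵢ = 1` over a finite field of odd order.
-/

set_option autoImplicit false

namespace Cfsg.Agent.Lib.Helper5.SpecBC

open Cfsg.Agent.Lib.Helper1 Finset

variable {F : Type*} [Field F] [Fintype F]

/-- splitting a count `A u + B w = c` over a sum type: sum over the first block -/
theorem card_sum_split_left_c {α β : Type*} [Fintype α] [Fintype β] [DecidableEq α] [DecidableEq β]
    [DecidableEq F] (A : (α → F) → F) (B : (β → F) → F) (c : F) :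
    (univ.filter (fun v : α ⊕ β → F => A (fun i => v (.inl i)) + B (fun j => v (.inr j)) = c)).card =
      ∑ u : α → F, (univ.filter (fun w : β → F => B w = c - A u)).card := by
  classical
  have h1 : (univ.filter (fun v : α ⊕ β → F =>
      A (fun i => v (.inl i)) + B (fun j => v (.inr j)) = c)).card =
      (univ.filter (fun p : (α → F) × (β → F) => B p.2 = c - A p.1)).card := by
    apply Finset.card_equiv (Equiv.sumArrowEquivProdArrow α β F)
    intro v
    rw [Finset.mem_filter, Finset.mem_filter]
    simp only [Finset.mem_univ, true_and]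
    rw [eq_sub_iff_add_eq, add_comm]
    exact Iff.rfl
  rw [h1, Finset.card_filter, Fintype.sum_prod_type]
  simp only [← Finset.card_filter]

theorem card_level_odd (hF : Odd (Fintype.card F)) (n : ℕ) :
    Nat.card {v : Unit ⊕ (Fin n ⊕ Fin n) → F // Cfsg.quadFormOdd n F v = 1} =
      Fintype.card F ^ (2 * n) + Fintype.card F ^ n := by
  classical
  set q := Fintype.card F with hq
  have h2 : (2 : F) ≠ 0 := by
    intro h
    have hch : ringChar F = 2 := by
      have hdvd : ringChar F ∣ 2 := by
        rw [← ringChar.spec F 2]; exact_mod_cast h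
      rcases (Nat.dvd_prime Nat.prime_two).1 hdvd with h1 | h1
      · exact absurd h1 (CharP.ringChar_ne_one)
      · exact h1
    have := FiniteField.even_card_of_char_two hch
    exact (Nat.not_even_iff_odd.2 hF) (Nat.even_iff.2 this)
  rw [Nat.card_eq_fintype_card, Fintype.card_subtype]
  have h0 : 0 < q := Fintype.card_pos
  have h1 := card_sum_split_left_c (F := F) (α := Unit) (β := Fin n ⊕ Fin n)
    (fun u => (u ()) ^ 2) (fun w => ∑ i : Fin n, w (.inl i) * w (.inr i)) 1
  beta_reduce at h1
  have h3 : (Finset.univ.filter (fun v : Unit ⊕ (Fin n ⊕ Fin n) → F =>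
      Cfsg.quadFormOdd n F v = 1)).card = _ := h1
  rw [h3]
  have h4 : ∀ u : Unit → F, (Finset.univ.filter (fun w : Fin n ⊕ Fin n → F =>
      ∑ i : Fin n, w (.inl i) * w (.inr i) = 1 - u () ^ 2)).card =
      (if 1 - u () ^ 2 = 0 then q ^ n else 0) + (q ^ n - 1) * q ^ (n - 1) := by
    intro u
    convert card_hyperbolic_eq (F := F) n (1 - u () ^ 2)
  rw [Finset.sum_congr rfl (fun u _ => h4 u)]
  have hcardU : Fintype.card (Unit → F) = q := by
    rw [Fintype.card_fun, Fintype.card_unit, pow_one]
  rw [Finset.sum_add_distrib, Finset.sum_const, Finset.card_univ, hcardU, smul_eq_mul]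
  have h5 : ∑ u : Unit → F, (if 1 - (u ()) ^ 2 = 0 then q ^ n else 0) = 2 * q ^ n := by
    have hs := Fintype.sum_equiv (Equiv.funUnique Unit F)
      (fun u : Unit → F => if 1 - u () ^ 2 = 0 then q ^ n else 0)
      (fun a : F => if 1 - a ^ 2 = 0 then q ^ n else 0) (fun u => rfl)
    rw [hs]
    have hiff : ∀ a : F, (1 - a ^ 2 = 0) ↔ (a = 1 ∨ a = -1) := by
      intro a
      rw [sub_eq_zero, eq_comm, sq_eq_one_iff]
    have hne : (1 : F) ≠ -1 := by
      intro h
      apply h2
      linear_combination h
    rw [← Finset.sum_filter]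
    have hfilt : Finset.univ.filter (fun a : F => 1 - a ^ 2 = 0) = {1, -1} := by
      ext a
      simp [hiff]
    rw [hfilt, Finset.sum_const, Finset.card_pair hne, smul_eq_mul]
  rw [h5]
  rcases Nat.eq_zero_or_pos n with hn | hn
  · subst hn; simp
  · have e1 : q * ((q ^ n - 1) * q ^ (n - 1)) = (q ^ n - 1) * q ^ n := by
      have : q * q ^ (n - 1) = q ^ n := by
        rw [← pow_succ']; congr 1; omega
      rw [← this]; ring
    rw [e1, Nat.sub_mul, one_mul]
    have e2 : q ^ n * q ^ n = q ^ (2 * n) := by rw [← pow_add]; congr 1; omega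
    rw [e2]
    have hle : q ^ n ≤ q ^ (2 * n) := Nat.pow_le_pow_right h0 (by omega)
    omega

end Cfsg.Agent.Lib.Helper5.SpecBC
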