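import Mathlib
import Cfsg.Agent.Lib.Helper5.SpecBC.Core1

/-!
Counting: an invariant subspace `U` of `[V, s]` (`s` of prime order `r`) has `q ^ dim U ≡ 1 mod r`.
-/

set_option autoImplicit false

namespace Cfsg.Agent.Lib.Helper5.SpecBC

open Module

variable {F : Type*} [Field F] {V : Type*} [AddCommGroup V] [Module F V]

/-- the permutation of an invariant subspace induced by a map of finite order -/
noncomputable def permOf (s : Module.End F V) (r : ℕ) (hr0 : 0 < r) (hs : s ^ r = 1)
    (U : Submodule F V) (hinv : ∀ x ∈ U, s x ∈ U) : Equiv.Perm U where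
  toFun x := ⟨s x, hinv x x.2⟩
  invFun x := ⟨(s ^ (r - 1)) x, by
    have h : ∀ k : ℕ, ∀ y ∈ U, (s ^ k) y ∈ U := by
      intro k
      induction k with
      | zero => intro y hy; simpa using hy
      | succ k ih => intro y hy; rw [pow_succ, Module.End.mul_apply]; exact ih _ (hinv y hy)
    exact h _ _ x.2⟩
  left_inv x := by
    apply Subtype.ext
    show (s ^ (r - 1)) (s x) = x
    rw [← Module.End.mul_apply, ← pow_succ, Nat.sub_add_cancel hr0, hs, Module.End.one_apply]
  right_inv x := by
    apply Subtype.ext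
    show s ((s ^ (r - 1)) x) = x
    rw [← Module.End.mul_apply, ← pow_succ', Nat.sub_add_cancel hr0, hs, Module.End.one_apply]

theorem permOf_pow_apply (s : Module.End F V) (r : ℕ) (hr0 : 0 < r) (hs : s ^ r = 1)
    (U : Submodule F V) (hinv : ∀ x ∈ U, s x ∈ U) (k : ℕ) (x : U) :
    (((permOf s r hr0 hs U hinv) ^ k) x : V) = (s ^ k) (x : V) := by
  induction k generalizing x with
  | zero => simp
  | succ k ih =>
    rw [pow_succ, Equiv.Perm.mul_apply, ih, pow_succ, Module.End.mul_apply]
    rfl

theorem dvd_card_sub_one [Fintype F] [FiniteDimensional F V] {s : Module.End F V} {r : ℕ}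
    (hrp : r.Prime) (hs : s ^ r = 1) (hr : (r : F) ≠ 0) (U : Submodule F V) (hU : U ≤ movS s)
    (hinv : ∀ x ∈ U, s x ∈ U) : r ∣ Fintype.card F ^ finrank F U - 1 := by
  classical
  have : Fact r.Prime := ⟨hrp⟩
  set σ := permOf s r hrp.pos hs U hinv with hσ
  have hσr : σ ^ r = 1 := by
    ext x
    rw [permOf_pow_apply, hs]
    rfl
  have hP : IsPGroup r (Subgroup.zpowers σ) := by
    intro g
    refine ⟨1, ?_⟩
    obtain ⟨g, hg⟩ := g
    obtain ⟨k, rfl⟩ := Subgroup.mem_zpowers_iff.1 hg
    apply Subtype.ext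
    show (σ ^ k) ^ (r ^ 1) = 1
    rw [pow_one, ← zpow_natCast, ← zpow_mul, mul_comm, zpow_mul, zpow_natCast, hσr, one_zpow]
  have hfin : Finite U := Module.finite_of_finite F
  have h1 := hP.card_modEq_card_fixedPoints U
  have hfix : MulAction.fixedPoints (Subgroup.zpowers σ) U = {0} := by
    ext x
    rw [MulAction.mem_fixedPoints, Set.mem_singleton_iff]
    constructor
    · intro h
      have h2 := h ⟨σ, Subgroup.mem_zpowers σ⟩
      have h3 : s (x : V) = x := by
        have := congrArg Subtype.val h2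
        exact this
      have h4 : (x : V) = 0 := by
        apply eq_zero_of_pow_fix hrp hs hr (hU x.2) (i := 1) (Nat.Prime.not_dvd_one hrp)
        rw [pow_one]; exact h3
      exact Subtype.ext h4
    · rintro rfl g
      obtain ⟨g, hg⟩ := g
      obtain ⟨k, rfl⟩ := Subgroup.mem_zpowers_iff.1 hg
      show (σ ^ k) 0 = 0
      apply Equiv.Perm.zpow_apply_eq_self_of_apply_eq_self
      apply Subtype.ext
      show s ((0 : U) : V) = ((0 : U) : V)
      simp
  rw [hfix, Nat.card_eq_fintype_card (α := ({0} : Set U)), Set.card_singleton] at h1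
  have hcard : Nat.card U = Fintype.card F ^ finrank F U := by
    have := Module.natCard_eq_pow_finrank (K := F) (V := U)
    rw [Nat.card_eq_fintype_card (α := F)] at this
    exact this
  rw [hcard] at h1
  exact (Nat.modEq_iff_dvd' (Nat.one_le_pow _ _ Fintype.card_pos)).1 h1.symm

end Cfsg.Agent.Lib.Helper5.SpecBC
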