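import Mathlib
import Cfsg.Agent.Lib.Helper5.SpecBC.Core2

/-!
With a primitive prime divisor `r` of `q ^ d - 1`: invariant subspaces of `[V, s]` have dimension
divisible by `d`; if `dim V < 2 d` then `[V, s]` is irreducible of dimension `d`.
-/

set_option autoImplicit false

namespace Cfsg.Agent.Lib.Helper5.SpecBC

open Module

variable {F : Type*} [Field F] [Fintype F] {V : Type*} [AddCommGroup V] [Module F V]
  [FiniteDimensional F V]

/-- primitive prime divisor data -/
structure PPD (q r d : ℕ) : Prop where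
  prime : r.Prime
  dpos : 0 < d
  dvd : r ∣ q ^ d - 1
  prim : ∀ k, 0 < k → k < d → ¬ r ∣ q ^ k - 1

theorem PPD.dvd_iff {q r d : ℕ} (h : PPD q r d) (hq : 0 < q) (j : ℕ) : r ∣ q ^ j - 1 ↔ d ∣ j := by
  have : Fact r.Prime := ⟨h.prime⟩
  have h1 : orderOf (q : ZMod r) ∣ d := (SylTor.dvd_pow_sub_one_iff hq d).1 h.dvd
  have h2 : 0 < orderOf (q : ZMod r) := Nat.pos_of_dvd_of_pos h1 h.dpos
  have h3 : orderOf (q : ZMod r) = d := by
    by_contra hne
    have hlt : orderOf (q : ZMod r) < d := lt_of_le_of_ne (Nat.le_of_dvd h.dpos h1) hne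
    exact h.prim _ h2 hlt ((SylTor.dvd_pow_sub_one_iff hq _).2 dvd_rfl)
  rw [SylTor.dvd_pow_sub_one_iff hq j, h3]

theorem PPD.not_dvd_q {q r d : ℕ} (h : PPD q r d) (hq : 0 < q) : ¬ r ∣ q := by
  intro hrq
  have h1 : r ∣ q ^ d := dvd_pow hrq h.dpos.ne'
  have h2 : 1 ≤ q ^ d := Nat.one_le_pow _ _ hq
  have h3 : r ∣ q ^ d - (q ^ d - 1) := Nat.dvd_sub h1 h.dvd
  have h4 : q ^ d - (q ^ d - 1) = 1 := by omega
  rw [h4] at h3
  exact h.prime.one_lt.ne' (Nat.dvd_one.1 h3)

/-- `r` is invertible in `F` -/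
theorem PPD.cast_ne_zero {r d : ℕ} (h : PPD (Fintype.card F) r d) : (r : F) ≠ 0 := by
  intro h0
  obtain ⟨p, hp⟩ := CharP.exists F
  have hpp : p.Prime := CharP.char_is_prime F p
  have h1 : p ∣ r := (CharP.cast_eq_zero_iff F p r).1 h0
  have h2 : p = r := (Nat.prime_dvd_prime_iff_eq hpp h.prime).1 h1
  obtain ⟨⟨n, hn0⟩, hpn, hcard⟩ := FiniteField.card F p
  apply h.not_dvd_q Fintype.card_pos
  rw [hcard, ← h2]
  exact dvd_pow_self p (by simpa using hn0.ne')

theorem dvd_finrank_of_le_movS {s : Module.End F V} {r d : ℕ} (h : PPD (Fintype.card F) r d)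
    (hs : s ^ r = 1) (U : Submodule F V) (hU : U ≤ movS s) (hinv : ∀ x ∈ U, s x ∈ U) :
    d ∣ finrank F U :=
  (h.dvd_iff Fintype.card_pos _).1 (dvd_card_sub_one h.prime hs h.cast_ne_zero U hU hinv)

theorem movS_invariant (s : Module.End F V) : ∀ x ∈ movS s, s x ∈ movS s :=
  fun _ hx => map_mem_movS (Commute.refl s) hx

theorem movS_ne_bot {s : Module.End F V} (hs1 : s ≠ 1) : movS s ≠ ⊥ := by
  intro h
  apply hs1
  ext x
  have : (s - 1) x ∈ movS s := LinearMap.mem_range_self _ x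
  rw [h, Submodule.mem_bot, LinearMap.sub_apply, sub_eq_zero] at this
  exact this

theorem finrank_movS {s : Module.End F V} {r d : ℕ} (h : PPD (Fintype.card F) r d)
    (hs : s ^ r = 1) (hs1 : s ≠ 1) (hdim : finrank F V < 2 * d) : finrank F (movS s) = d := by
  obtain ⟨c, hc⟩ := dvd_finrank_of_le_movS h hs (movS s) le_rfl (movS_invariant s)
  have h1 : finrank F (movS s) ≤ finrank F V := Submodule.finrank_le _
  have h2 : 0 < finrank F (movS s) := by
    rw [Nat.pos_iff_ne_zero]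
    intro h0
    exact movS_ne_bot hs1 (Submodule.finrank_eq_zero.1 h0)
  rw [hc] at h1 h2 ⊢
  have hd := h.dpos
  have hc1 : c = 1 := by
    rcases Nat.lt_or_ge c 2 with h3 | h3
    · rcases Nat.eq_zero_or_pos c with h4 | h4
      · subst h4; simp at h2
      · omega
    · have : d * 2 ≤ d * c := Nat.mul_le_mul_left d h3
      omega
  rw [hc1, mul_one]

/-- irreducibility of `[V, s]` -/
theorem eq_movS_of_invariant {s : Module.End F V} {r d : ℕ} (h : PPD (Fintype.card F) r d)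
    (hs : s ^ r = 1) (hs1 : s ≠ 1) (hdim : finrank F V < 2 * d) (U : Submodule F V)
    (hU : U ≤ movS s) (hinv : ∀ x ∈ U, s x ∈ U) (hU0 : U ≠ ⊥) : U = movS s := by
  obtain ⟨c, hc⟩ := dvd_finrank_of_le_movS h hs U hU hinv
  have h2 : 0 < finrank F U := by
    rw [Nat.pos_iff_ne_zero]
    intro h0
    exact hU0 (Submodule.finrank_eq_zero.1 h0)
  apply Submodule.eq_of_le_of_finrank_le hU
  rw [finrank_movS h hs hs1 hdim, hc]
  rcases Nat.eq_zero_or_pos c with h4 | h4
  · subst h4; simp [hc] at h2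
  · exact Nat.le_mul_of_pos_right d h4

/-- Schur: a map commuting with `s` that kills a nonzero vector of `[V, s]` kills `[V, s]` -/
theorem eq_zero_on_movS {s f : Module.End F V} {r d : ℕ} (h : PPD (Fintype.card F) r d)
    (hs : s ^ r = 1) (hs1 : s ≠ 1) (hdim : finrank F V < 2 * d) (hc : Commute f s)
    {x : V} (hx : x ∈ movS s) (hx0 : x ≠ 0) (hfx : f x = 0) : ∀ y ∈ movS s, f y = 0 := by
  set U : Submodule F V := LinearMap.ker f ⊓ movS s with hU
  have hUle : U ≤ movS s := inf_le_right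
  have hinv : ∀ y ∈ U, s y ∈ U := by
    intro y hy
    rw [hU, Submodule.mem_inf] at hy ⊢
    refine ⟨?_, movS_invariant s y hy.2⟩
    rw [LinearMap.mem_ker, ← Module.End.mul_apply, hc.eq, Module.End.mul_apply,
      LinearMap.mem_ker.1 hy.1, map_zero]
  have hU0 : U ≠ ⊥ := by
    intro h0
    have : x ∈ U := by
      rw [hU, Submodule.mem_inf]
      exact ⟨LinearMap.mem_ker.2 hfx, hx⟩
    rw [h0, Submodule.mem_bot] at this
    exact hx0 this
  have hUeq := eq_movS_of_invariant h hs hs1 hdim U hUle hinv hU0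
  intro y hy
  rw [← hUeq, hU, Submodule.mem_inf] at hy
  exact LinearMap.mem_ker.1 hy.1

end Cfsg.Agent.Lib.Helper5.SpecBC
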