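import Mathlib
import Cfsg.Agent.Lib.Helper5.SpecBC.Core3

/-!
Isometries: orthogonality of `ker (s - 1)` and `range (s - 1)`, nondegeneracy of the restriction,
unipotent elements act trivially on the irreducible part.
-/

set_option autoImplicit false

namespace Cfsg.Agent.Lib.Helper5.SpecBC

open Module QuadraticMap

section iso

variable {F : Type*} [Field F] {V : Type*} [AddCommGroup V] [Module F V]

theorem polar_map_map (Q : QuadraticForm F V) {f : Module.End F V} (hf : ∀ x, Q (f x) = Q x)
    (x y : V) : polar Q (f x) (f y) = polar Q x y := by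
  unfold polar
  rw [← map_add, hf, hf, hf]

theorem polar_fix_mov (Q : QuadraticForm F V) {s : Module.End F V} (hs : ∀ x, Q (s x) = Q x)
    {x y : V} (hx : x ∈ fixS s) (hy : y ∈ movS s) : polar Q x y = 0 := by
  rw [mem_fixS] at hx
  obtain ⟨z, rfl⟩ := mem_movS.1 hy
  rw [polar_sub_right]
  nth_rewrite 1 [← hx]
  rw [polar_map_map Q hs, sub_self]

theorem nondeg_fixS [FiniteDimensional F V] (Q : QuadraticForm F V)
    (hQ : (polarBilin Q).Nondegenerate) {s : Module.End F V} (hs : ∀ x, Q (s x) = Q x) {r : ℕ}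
    (hsr : s ^ r = 1) (hr : (r : F) ≠ 0) :
    (polarBilin (Q.comp (fixS s).subtype)).Nondegenerate := by
  have hc := isCompl_fix_mov hsr hr
  have key : ∀ x : fixS s, (∀ y : fixS s, polar Q (x : V) (y : V) = 0) → x = 0 := by
    intro x hx
    apply Subtype.ext
    apply hQ.1
    intro z
    have hz : z ∈ fixS s ⊔ movS s := by rw [hc.sup_eq_top]; trivial
    obtain ⟨a, ha, b, hb, rfl⟩ := Submodule.mem_sup.1 hz
    rw [polarBilin_apply_apply, polar_add_right, hx ⟨a, ha⟩, polar_fix_mov Q hs x.2 hb, add_zero]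
  have hpol : ∀ x y : fixS s, polar (Q.comp (fixS s).subtype) x y = polar Q (x : V) (y : V) := by
    intro x y
    unfold polar
    simp
  constructor
  · intro x hx
    apply key x
    intro y
    have := hx y
    rwa [polarBilin_apply_apply, hpol] at this
  · intro y hy
    apply key y
    intro x
    have := hy x
    rwa [polarBilin_apply_apply, hpol, polar_comm] at this

end iso

section unip

variable {F : Type*} [Field F] [Fintype F] {V : Type*} [AddCommGroup V] [Module F V]
  [FiniteDimensional F V]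

/-- a map of order `p = char F` fixes a nonzero vector of every nonzero invariant subspace -/
theorem exists_fix_ne_zero (p : ℕ) [hp : Fact p.Prime] [CharP F p] {u : Module.End F V}
    (hu : u ^ p = 1) (U : Submodule F V) (hinv : ∀ x ∈ U, u x ∈ U) (hU0 : U ≠ ⊥) :
    ∃ x ∈ U, x ≠ 0 ∧ u x = x := by
  classical
  set σ := permOf u p hp.out.pos hu U hinv with hσ
  have hσr : σ ^ p = 1 := by
    ext x
    rw [permOf_pow_apply, hu]
    rfl
  have hP : IsPGroup p (Subgroup.zpowers σ) := by
    intro g
    refine ⟨1, ?_⟩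
    obtain ⟨g, hg⟩ := g
    obtain ⟨k, rfl⟩ := Subgroup.mem_zpowers_iff.1 hg
    apply Subtype.ext
    show (σ ^ k) ^ (p ^ 1) = 1
    rw [pow_one, ← zpow_natCast, ← zpow_mul, mul_comm, zpow_mul, zpow_natCast, hσr, one_zpow]
  have hfin : Finite U := Module.finite_of_finite F
  have h1 := hP.card_modEq_card_fixedPoints U
  have hcard : Nat.card U = Fintype.card F ^ finrank F U := by
    have := Module.natCard_eq_pow_finrank (K := F) (V := U)
    rw [Nat.card_eq_fintype_card (α := F)] at this
    exact this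
  have hpq : p ∣ Fintype.card F := by
    obtain ⟨⟨n, hn0⟩, -, hcardF⟩ := FiniteField.card F p
    rw [hcardF]
    exact dvd_pow_self p (by simpa using hn0.ne')
  have hpos : 0 < finrank F U := by
    rw [Nat.pos_iff_ne_zero]
    intro h0
    exact hU0 (Submodule.finrank_eq_zero.1 h0)
  have hpU : p ∣ Nat.card U := by
    rw [hcard]
    exact dvd_pow hpq hpos.ne'
  have hpfix : p ∣ Nat.card (MulAction.fixedPoints (Subgroup.zpowers σ) U) :=
    (Nat.modEq_zero_iff_dvd.1 (h1.symm.trans (Nat.modEq_zero_iff_dvd.2 hpU)))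
  -- so there are at least two fixed points
  have hfin2 : Finite (MulAction.fixedPoints (Subgroup.zpowers σ) U) := inferInstance
  have h0mem : (0 : U) ∈ MulAction.fixedPoints (Subgroup.zpowers σ) U := by
    rw [MulAction.mem_fixedPoints]
    rintro ⟨g, hg⟩
    obtain ⟨k, rfl⟩ := Subgroup.mem_zpowers_iff.1 hg
    show (σ ^ k) 0 = 0
    apply Equiv.Perm.zpow_apply_eq_self_of_apply_eq_self
    apply Subtype.ext
    show u ((0 : U) : V) = ((0 : U) : V)
    simp
  have h2le : 2 ≤ Nat.card (MulAction.fixedPoints (Subgroup.zpowers σ) U) := by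
    have hne : Nat.card (MulAction.fixedPoints (Subgroup.zpowers σ) U) ≠ 0 := by
      have : Nonempty (MulAction.fixedPoints (Subgroup.zpowers σ) U) := ⟨⟨0, h0mem⟩⟩
      exact Nat.card_pos.ne'
    exact le_trans hp.out.two_le (Nat.le_of_dvd (Nat.pos_of_ne_zero hne) hpfix)
  have hnt : Nontrivial (MulAction.fixedPoints (Subgroup.zpowers σ) U) :=
    Finite.one_lt_card_iff_nontrivial.1 (by omega)
  obtain ⟨⟨x, hx⟩, hx0⟩ := exists_ne (⟨0, h0mem⟩ : MulAction.fixedPoints (Subgroup.zpowers σ) U)
  refine ⟨x, x.2, ?_, ?_⟩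
  · intro h
    apply hx0
    apply Subtype.ext
    exact Subtype.ext h
  · have h3 := (MulAction.mem_fixedPoints.1 hx) ⟨σ, Subgroup.mem_zpowers σ⟩
    exact congrArg Subtype.val h3

/-- a commuting map of order `p` is trivial on the irreducible part -/
theorem unip_trivial_on_movS (p : ℕ) [hp : Fact p.Prime] [CharP F p] {s u : Module.End F V}
    {r d : ℕ} (h : PPD (Fintype.card F) r d) (hs : s ^ r = 1) (hs1 : s ≠ 1)
    (hdim : finrank F V < 2 * d) (hu : u ^ p = 1) (hc : Commute u s) :
    ∀ y ∈ movS s, u y = y := by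
  obtain ⟨x, hx, hx0, hux⟩ := exists_fix_ne_zero p hu (movS s)
    (fun x hx => map_mem_movS hc hx) (movS_ne_bot hs1)
  have hc' : Commute (u - 1) s := by
    apply Commute.sub_left hc (Commute.one_left s)
  have h1 := eq_zero_on_movS h hs hs1 hdim hc' hx hx0
    (by rw [LinearMap.sub_apply, Module.End.one_apply, hux, sub_self])
  intro y hy
  have := h1 y hy
  rwa [LinearMap.sub_apply, Module.End.one_apply, sub_eq_zero] at this

end unip

end Cfsg.Agent.Lib.Helper5.SpecBC
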