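import Mathlib
import Cfsg.Agent.Lib.Helper5.SpecBC.Core4
import Cfsg.Agent.Lib.Lead.S2362b

/-!
Main structural statement: an isometry `h` of order `N` commuting with a unipotent isometry `u ≠ 1`
and with an element `s` of primitive-prime-divisor order acts trivially on the 3-dimensional fixed
space of `s` and freely on the vectors outside that space.
-/

set_option autoImplicit false

namespace Cfsg.Agent.Lib.Helper5.SpecBC

open Module QuadraticMap

variable {F : Type*} [Field F] [Fintype F] {V : Type*} [AddCommGroup V] [Module F V]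
  [FiniteDimensional F V]

theorem decomp_of_isCompl {s : Module.End F V} {r : ℕ} (hsr : s ^ r = 1) (hr : (r : F) ≠ 0)
    (x : V) : ∃ a ∈ fixS s, ∃ b ∈ movS s, a + b = x := by
  have hc := isCompl_fix_mov hsr hr
  have hz : x ∈ fixS s ⊔ movS s := by rw [hc.sup_eq_top]; trivial
  exact Submodule.mem_sup.1 hz

theorem unique_of_isCompl {s : Module.End F V} {r : ℕ} (hsr : s ^ r = 1) (hr : (r : F) ≠ 0)
    {a a' b b' : V} (ha : a ∈ fixS s) (ha' : a' ∈ fixS s) (hb : b ∈ movS s) (hb' : b' ∈ movS s)
    (h : a + b = a' + b') : a = a' ∧ b = b' := by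
  have hd := disjoint_fix_mov hsr hr
  have h1 : a - a' = b' - b := by
    rw [sub_eq_sub_iff_add_eq_add, h, add_comm]
  have h2 : a - a' ∈ fixS s := Submodule.sub_mem _ ha ha'
  have h3 : a - a' ∈ movS s := by rw [h1]; exact Submodule.sub_mem _ hb' hb
  have h4 : a - a' = 0 := (Submodule.disjoint_def.1 hd) _ h2 h3
  have h5 : b' - b = 0 := by rw [← h1, h4]
  exact ⟨sub_eq_zero.1 h4, (sub_eq_zero.1 h5).symm⟩

theorem pow_mem_movS {s f : Module.End F V} (hc : Commute f s) (j : ℕ) {x : V} (hx : x ∈ movS s) :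
    (f ^ j) x ∈ movS s :=
  map_mem_movS (hc.pow_left j) hx

theorem core_main (p : ℕ) [hp : Fact p.Prime] [CharP F p] (h2 : (2 : F) ≠ 0)
    (Q : QuadraticForm F V) (hQ : (polarBilin Q).Nondegenerate)
    {r d N : ℕ} (hppd : PPD (Fintype.card F) r d) (hd : 3 < d) (hdim : finrank F V = d + 3)
    {s h u : Module.End F V}
    (hsQ : ∀ x, Q (s x) = Q x) (hhQ : ∀ x, Q (h x) = Q x) (huQ : ∀ x, Q (u x) = Q x)
    (hs : s ^ r = 1) (hs1 : s ≠ 1) (hu : u ^ p = 1) (hu1 : u ≠ 1)
    (hhN : h ^ N = 1) (hNmin : ∀ j, h ^ j = 1 → N ∣ j) (hN : (N : F) ≠ 0) (hN2 : 2 < N)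
    (hhs : Commute h s) (hus : Commute u s) (hhu : Commute h u)
    (hfix : ∃ x, x ≠ 0 ∧ h x = x) :
    finrank F (fixS s) = 3 ∧ (∀ x ∈ fixS s, h x = x) ∧
      (∀ x, x ∉ fixS s → ∀ j, (h ^ j) x = x → N ∣ j) := by
  have hr : (r : F) ≠ 0 := hppd.cast_ne_zero
  have hdim2 : finrank F V < 2 * d := by omega
  have hmov : finrank F (movS s) = d := finrank_movS hppd hs hs1 hdim2
  have hfixdim : finrank F (fixS s) = 3 := by
    have := finrank_fix_add_mov s
    omega
  have huW : ∀ y ∈ movS s, u y = y := unip_trivial_on_movS p hppd hs hs1 hdim2 hu hus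
  -- restrictions to the fixed space
  have hhinv : ∀ x ∈ fixS s, h x ∈ fixS s := fun x hx => map_mem_fixS hhs hx
  have huinv : ∀ x ∈ fixS s, u x ∈ fixS s := fun x hx => map_mem_fixS hus hx
  set h₀ : Module.End F (fixS s) := h.restrict hhinv with hh₀
  set u₀ : Module.End F (fixS s) := u.restrict huinv with hu₀
  have hQ₀ := nondeg_fixS Q hQ hsQ hs hr
  have hh₀Q : ∀ x, (Q.comp (fixS s).subtype) (h₀ x) = (Q.comp (fixS s).subtype) x := by
    intro x
    simp only [QuadraticMap.comp_apply, Submodule.subtype_apply]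
    exact hhQ x
  have hu₀Q : ∀ x, (Q.comp (fixS s).subtype) (u₀ x) = (Q.comp (fixS s).subtype) x := by
    intro x
    simp only [QuadraticMap.comp_apply, Submodule.subtype_apply]
    exact huQ x
  have hc₀ : Commute h₀ u₀ := by
    apply LinearMap.ext
    intro x
    apply Subtype.ext
    show h (u x) = u (h x)
    rw [← Module.End.mul_apply, hhu.eq, Module.End.mul_apply]
  have hu₀p : u₀ ^ p = 1 := by
    rw [hu₀, Module.End.pow_restrict]
    apply LinearMap.ext
    intro x
    apply Subtype.ext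
    show (u ^ p) x = x
    rw [hu, Module.End.one_apply]
  have hh₀N : h₀ ^ N = 1 := by
    rw [hh₀, Module.End.pow_restrict]
    apply LinearMap.ext
    intro x
    apply Subtype.ext
    show (h ^ N) x = x
    rw [hhN, Module.End.one_apply]
  have hnil : IsNilpotent (u₀ - 1) := by
    refine ⟨p, ?_⟩
    have h1 : ((Polynomial.X - 1 : Polynomial F)) ^ p = Polynomial.X ^ p - 1 := by
      rw [sub_pow_char, one_pow]
    have h3 := congrArg (Polynomial.aeval u₀) h1
    simpa [hu₀p] using h3
  have hu₀1 : u₀ ≠ 1 := by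
    intro h1
    apply hu1
    apply LinearMap.ext
    intro x
    obtain ⟨a, ha, b, hb, rfl⟩ := decomp_of_isCompl hs hr x
    rw [map_add, huW b hb, Module.End.one_apply]
    congr 1
    have := congrArg (fun f : Module.End F (fixS s) => ((f ⟨a, ha⟩ : fixS s) : V)) h1
    exact this
  have hT3 := Cfsg.Agent.Lib.Lead.S2362b.scalar_of_commute_unipotent_three h2 (Q.comp (fixS s).subtype) hQ₀ hfixdim h₀ u₀
    hh₀Q hu₀Q hc₀ hnil hu₀1 N hN hh₀N
  -- Schur for powers of h
  have schur : ∀ j : ℕ, ∀ b ∈ movS s, b ≠ 0 → (h ^ j) b = b → ∀ y ∈ movS s, (h ^ j) y = y := by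
    intro j b hb hb0 hjb y hy
    have hc' : Commute (h ^ j - 1) s := Commute.sub_left (hhs.pow_left j) (Commute.one_left s)
    have h1 := eq_zero_on_movS hppd hs hs1 hdim2 hc' hb hb0
      (by rw [LinearMap.sub_apply, Module.End.one_apply, hjb, sub_self])
    have := h1 y hy
    rwa [LinearMap.sub_apply, Module.End.one_apply, sub_eq_zero] at this
  rcases hT3 with h1 | h1
  · -- h trivial on the fixed space
    have hfixh : ∀ x ∈ fixS s, h x = x := by
      intro x hx
      have := congrArg (fun f : Module.End F (fixS s) => ((f ⟨x, hx⟩ : fixS s) : V)) h1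
      exact this
    refine ⟨hfixdim, hfixh, ?_⟩
    intro x hx j hj
    obtain ⟨a, ha, b, hb, rfl⟩ := decomp_of_isCompl hs hr x
    have hb0 : b ≠ 0 := by
      rintro rfl
      apply hx
      rw [add_zero]; exact ha
    have ha' : (h ^ j) a = a := pow_apply_of_fix (hfixh a ha) j
    rw [map_add, ha'] at hj
    have hjb : (h ^ j) b = b :=
      (unique_of_isCompl hs hr ha ha (pow_mem_movS hhs j hb) hb hj).2
    apply hNmin
    apply LinearMap.ext
    intro y
    obtain ⟨a', ha', b', hb', rfl⟩ := decomp_of_isCompl hs hr y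
    rw [map_add, pow_apply_of_fix (hfixh a' ha') j, schur j b hb hb0 hjb b' hb',
      Module.End.one_apply]
  · -- h = -1 on the fixed space: impossible
    exfalso
    have hfixh : ∀ x ∈ fixS s, h x = -x := by
      intro x hx
      have := congrArg (fun f : Module.End F (fixS s) => ((f ⟨x, hx⟩ : fixS s) : V)) h1
      exact this
    obtain ⟨x, hx0, hx⟩ := hfix
    obtain ⟨a, ha, b, hb, rfl⟩ := decomp_of_isCompl hs hr x
    rw [map_add, hfixh a ha] at hx
    have h3 := unique_of_isCompl hs hr (Submodule.neg_mem _ ha) ha (map_mem_movS hhs hb) hb hx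
    have ha0 : a = 0 := by
      have h4 : (2 : F) • a = 0 := by
        rw [two_smul]
        nth_rewrite 1 [← h3.1]
        exact neg_add_cancel a
      rcases smul_eq_zero.1 h4 with h5 | h5
      · exact absurd h5 h2
      · exact h5
    have hb0 : b ≠ 0 := by
      rintro rfl
      apply hx0
      rw [ha0, add_zero]
    have hW : ∀ y ∈ movS s, h y = y := by
      intro y hy
      have := schur 1 b hb hb0 (by rw [pow_one]; exact h3.2) y hy
      rwa [pow_one] at this
    have hsq : h ^ 2 = 1 := by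
      apply LinearMap.ext
      intro y
      obtain ⟨a', ha', b', hb', rfl⟩ := decomp_of_isCompl hs hr y
      rw [pow_two, Module.End.mul_apply, map_add, map_add, hfixh a' ha', hW b' hb', map_neg,
        hfixh a' ha', neg_neg, hW b' hb', Module.End.one_apply]
    have := Nat.le_of_dvd (by norm_num) (hNmin 2 hsq)
    omega

end Cfsg.Agent.Lib.Helper5.SpecBC
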