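import Mathlib
import Cfsg.Agent.Lib.Helper5.SpecBC.Core5
import Cfsg.Agent.Lib.Helper5.SpecBC.Mat1
import Cfsg.Agent.Lib.Helper5.SpecBC.CntX
import Cfsg.Agent.Lib.Helper5.SpecBC.Arith
import Cfsg.Agent.Lib.Lead.S2362a
import Cfsg.Agent.Lib.Helper1.QuadLevel3
import Cfsg.Agent.Lib.Helper2.Spinor6
import Cfsg.Agent.S2904

/-!
`Ω_{2n+1}(q)` has no element of order `p (q^(n-1) + 1)`.
-/

set_option autoImplicit false

namespace Cfsg.Agent.Lib.Helper5.SpecBC

open Module QuadraticMap Cfsg.Agent.Lib.Helper2 Cfsg.Agent.Lib.Helper2.CDG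

variable {F : Type*} [Field F] [Fintype F]

theorem two_ne_zero_of_odd_card (hF : Odd (Fintype.card F)) : (2 : F) ≠ 0 := by
  intro h
  have hch : ringChar F = 2 := by
    have hdvd : ringChar F ∣ 2 := by
      rw [← ringChar.spec F 2]; exact_mod_cast h
    rcases (Nat.dvd_prime Nat.prime_two).1 hdvd with h1 | h1
    · exact absurd h1 (CharP.ringChar_ne_one)
    · exact h1
  have := FiniteField.even_card_of_char_two hch
  exact (Nat.not_even_iff_odd.2 hF) (Nat.even_iff.2 this)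

/-- elements of `Ω` have determinant one and act evenly on the unit sphere -/
theorem det_and_sign_of_mem [DecidableEq F] {ι : Type} [Fintype ι] [DecidableEq ι]
    {Q : QuadraticForm F (ι → F)} (h2 : (2 : F) ≠ 0) (hQ : (polarBilin Q).Nondegenerate)
    (hn : 2 ≤ Fintype.card ι) {g : ↥(Cfsg.isometryGroup F ⇑Q)}
    (hg : g ∈ commutator ↥(Cfsg.isometryGroup F ⇑Q)) :
    ((g : Matrix.GeneralLinearGroup ι F) : Matrix ι ι F).det = 1 ∧
      Equiv.Perm.sign (Spinor.levPerm Q 1 g) = 1 := by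
  have h1 := (Spinor.mem_commutator_iff h2 hQ hn g).1 hg
  unfold Spinor.Phi at h1
  rw [MonoidHom.prod_apply, Prod.mk_eq_one] at h1
  refine ⟨?_, ?_⟩
  · have := congrArg Units.val h1.1
    simpa using this
  · exact h1.2

end Cfsg.Agent.Lib.Helper5.SpecBC
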