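import Mathlib
import Cfsg.Agent.Lib.Helper5.SpecBC.Sp1

/-!
The symplectic side: construction of the element of order `p (q^e + 1)` in `PSp_{2(e+1)}(q)`.
-/

set_option autoImplicit false

namespace Cfsg.Agent.Lib.Helper5.SpecBC

open Module Cfsg.Agent.Lib.Helper5.SylTor

section unip

variable (F : Type*) [Field F]

/-- the unipotent map `(a, b) ↦ (a + b, b)` -/
noncomputable def uMap : Module.End F (F × F) :=
  LinearMap.prod (LinearMap.fst F F F + LinearMap.snd F F F) (LinearMap.snd F F F)

theorem uMap_apply (x : F × F) : uMap F x = (x.1 + x.2, x.2) := rfl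

theorem uMap_pow_apply (j : ℕ) (x : F × F) : (uMap F ^ j) x = (x.1 + (j : F) * x.2, x.2) := by
  induction j generalizing x with
  | zero => simp
  | succ k ih =>
    rw [pow_succ, Module.End.mul_apply, ih, uMap_apply]
    apply Prod.ext
    · simp only [Nat.cast_succ]; ring
    · rfl

theorem uMap_pres (x y : F × F) : hypForm F F (uMap F x) (uMap F y) = hypForm F F x y := by
  simp only [hypForm_apply, uMap_apply, Algebra.trace_self_apply]
  ring

end unip

section main

variable {F : Type*} [Field F] [Fintype F]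

theorem exists_order_sp (p : ℕ) [hp : Fact p.Prime] [CharP F p] (h2 : (2 : F) ≠ 0) (e : ℕ)
    (he : 0 < e) :
    ∃ g : Matrix.symplecticGroup (Fin (e + 1)) F,
      (∀ j : ℕ, g ^ j = 1 ↔ p * (Fintype.card F ^ e + 1) ∣ j) ∧
      (∀ j : ℕ, g ^ j ≠ Cfsg.Agent.S0246.negOne (e + 1) F) := by
  classical
  have : NeZero (2 * e) := ⟨by omega⟩
  let L := FiniteField.Extension F p (2 * e)
  have : Fintype L := Fintype.ofFinite L
  have hfin : finrank F L = 2 * e := FiniteField.finrank_extension F p (2 * e)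
  have hq1 : 1 ≤ Fintype.card F ^ e := Nat.one_le_pow _ _ Fintype.card_pos
  have hLcard : Nat.card L = Fintype.card F ^ (2 * e) := by
    rw [FiniteField.natCard_extension, Nat.card_eq_fintype_card]
  have hunits : Nat.card Lˣ = (Fintype.card F ^ e - 1) * (Fintype.card F ^ e + 1) := by
    rw [Nat.card_units, hLcard, two_mul, pow_add]
    have h2 : 1 ≤ Fintype.card F ^ e * Fintype.card F ^ e := Nat.mul_pos hq1 hq1
    zify [hq1, h2]
    ring
  set N := Fintype.card F ^ e + 1 with hN
  -- element of order N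
  obtain ⟨γ, hγ⟩ := IsCyclic.exists_ofOrder_eq_natCard (α := Lˣ)
  have hq2 : 2 ≤ Fintype.card F := by
    have := Fintype.one_lt_card (α := F)
    omega
  have hqe2 : 2 ≤ Fintype.card F ^ e := by
    calc 2 ≤ Fintype.card F := hq2
      _ = Fintype.card F ^ 1 := (pow_one _).symm
      _ ≤ Fintype.card F ^ e := Nat.pow_le_pow_right (by omega) he
  set ζ : Lˣ := γ ^ (Fintype.card F ^ e - 1) with hζ
  have hζord : orderOf ζ = N := by
    rw [hζ, orderOf_pow_of_dvd (by omega) (by rw [hγ, hunits]; exact Dvd.intro _ rfl), hγ, hunits,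
      Nat.mul_div_cancel_left _ (by omega)]
  have hnorm : ((ζ : Lˣ) : L) * sig F L e ((ζ : Lˣ) : L) = 1 := by
    rw [sig_apply, ← pow_succ']
    have h3 : ζ ^ N = 1 := by rw [← hζord]; exact pow_orderOf_eq_one ζ
    have := congrArg (fun u : Lˣ => (u : L)) h3
    simpa [hN] using this
  obtain ⟨ε, hε0, hε⟩ := exists_eps (F := F) (L := L) he hfin
  -- the space and the form
  let B := prodForm (nsForm (F := F) e ε) (hypForm F F)
  have hB : B.IsAlt := prodForm_isAlt (nsForm_isAlt hfin hε) (hypForm_isAlt F F)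
  have hnd : ∀ x, (∀ y, B x y = 0) → x = 0 :=
    prodForm_nondeg (nsForm_nondeg hε0) (hypForm_nondeg F F)
  have hdim : finrank F (L × (F × F)) = 2 * (e + 1) := by
    rw [Module.finrank_prod, Module.finrank_prod, hfin, Module.finrank_self]
    ring
  let T : Module.End F (L × (F × F)) :=
    LinearMap.prodMap (DistribMulAction.toModuleAut F L ζ).toLinearMap (uMap F)
  have hTapply : ∀ w : L × (F × F), T w = (((ζ : Lˣ) : L) * w.1, uMap F w.2) := by
    intro w
    simp [T, Units.smul_def]
  have hTpow : ∀ (j : ℕ) (w : L × (F × F)),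
      (T ^ j) w = ((((ζ ^ j : Lˣ) : Lˣ) : L) * w.1, (uMap F ^ j) w.2) := by
    intro j
    induction j with
    | zero => intro w; simp
    | succ k ih =>
      intro w
      rw [pow_succ, Module.End.mul_apply, hTapply, ih]
      apply Prod.ext
      · simp only [pow_succ, Units.val_mul]; ring
      · simp only [pow_succ, Module.End.mul_apply]
  have hTpres : ∀ x y, B (T x) (T y) = B x y := by
    intro x y
    simp only [B, prodForm_apply, hTapply]
    have h3 := nsForm_pres (F := F) e ε ζ hnorm x.1 y.1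
    simp only [DistribMulAction.toModuleAut_apply, DistribMulAction.toLinearEquiv_apply,
      Units.smul_def, smul_eq_mul] at h3
    rw [h3, uMap_pres]
  obtain ⟨g, hg⟩ := exists_sp_of_isometry B hB hnd hdim T hTpres
  have hpN : Nat.Coprime p N := by
    have hpq : p ∣ Fintype.card F := by
      obtain ⟨⟨n, hn0⟩, -, hcardF⟩ := FiniteField.card F p
      rw [hcardF]
      exact dvd_pow_self p (by simpa using hn0.ne')
    rw [Nat.Prime.coprime_iff_not_dvd hp.out]
    intro h3
    have h4 : p ∣ Fintype.card F ^ e := dvd_pow hpq he.ne'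
    have h5 : p ∣ N - Fintype.card F ^ e := Nat.dvd_sub h3 h4
    have h6 : N - Fintype.card F ^ e = 1 := by omega
    rw [h6] at h5
    exact hp.out.one_lt.ne' (Nat.dvd_one.1 h5)
  refine ⟨g, ?_, ?_⟩
  · intro j
    have h3 : g ^ j = 1 ↔ ((g ^ j : Matrix.symplecticGroup (Fin (e + 1)) F) :
        Matrix (Fin (e + 1) ⊕ Fin (e + 1)) (Fin (e + 1) ⊕ Fin (e + 1)) F) =
        (1 : F) • (1 : Matrix (Fin (e + 1) ⊕ Fin (e + 1)) (Fin (e + 1) ⊕ Fin (e + 1)) F) := by
      rw [one_smul]
      constructor
      · intro h; rw [h]; rfl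
      · intro h; exact Subtype.ext h
    rw [h3, hg j 1]
    constructor
    · intro h
      have h4 := h ((1 : L), ((0 : F), (1 : F)))
      rw [hTpow, uMap_pow_apply, one_smul] at h4
      have h5 : (((ζ ^ j : Lˣ) : Lˣ) : L) = 1 := by
        have := congrArg Prod.fst h4
        simpa using this
      have h6 : (j : F) = 0 := by
        have := congrArg (fun w : L × (F × F) => w.2.1) h4
        simpa using this
      have h7 : N ∣ j := by
        rw [← hζord]
        apply orderOf_dvd_of_pow_eq_one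
        exact Units.ext h5
      have h8 : p ∣ j := (CharP.cast_eq_zero_iff F p j).1 h6
      exact Nat.Coprime.mul_dvd_of_dvd_of_dvd hpN h8 h7
    · rintro ⟨k, rfl⟩ w
      rw [hTpow, uMap_pow_apply, one_smul]
      have h4 : ζ ^ (p * N * k) = 1 := by
        rw [mul_comm p N, mul_assoc, pow_mul, ← hζord, pow_orderOf_eq_one, one_pow]
      have h5 : ((p * N * k : ℕ) : F) = 0 := by
        rw [mul_assoc, Nat.cast_mul, CharP.cast_eq_zero F p, zero_mul]
      rw [h4, h5]
      simp
  · intro j hj
    have h3 : ((g ^ j : Matrix.symplecticGroup (Fin (e + 1)) F) :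
        Matrix (Fin (e + 1) ⊕ Fin (e + 1)) (Fin (e + 1) ⊕ Fin (e + 1)) F) =
        (-1 : F) • (1 : Matrix (Fin (e + 1) ⊕ Fin (e + 1)) (Fin (e + 1) ⊕ Fin (e + 1)) F) := by
      rw [hj, neg_smul, one_smul]; rfl
    have h4 := (hg j (-1)).1 h3 ((0 : L), ((1 : F), (0 : F)))
    rw [hTpow, uMap_pow_apply] at h4
    have h5 := congrArg (fun w : L × (F × F) => w.2.1) h4
    simp only [mul_zero, add_zero, Prod.smul_mk, smul_eq_mul, mul_one] at h5
    apply h2
    linear_combination h5

theorem exists_order_psp (p : ℕ) [hp : Fact p.Prime] [CharP F p] (h2 : (2 : F) ≠ 0) (e : ℕ)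
    (he : 0 < e) :
    p * (Fintype.card F ^ e + 1) ∈ Set.range (orderOf : Cfsg.PSp (e + 1) F → ℕ) := by
  obtain ⟨g, hg1, hg2⟩ := exists_order_sp p h2 e he
  refine ⟨QuotientGroup.mk g, ?_⟩
  apply Nat.dvd_antisymm
  · apply orderOf_dvd_of_pow_eq_one
    rw [← QuotientGroup.mk_pow, (hg1 _).2 dvd_rfl, QuotientGroup.mk_one]
  · rw [← hg1]
    set j := orderOf (QuotientGroup.mk g : Cfsg.PSp (e + 1) F) with hj
    have h1 : g ^ j ∈ Subgroup.center (Matrix.symplecticGroup (Fin (e + 1)) F) := by
      rw [← QuotientGroup.eq_one_iff, QuotientGroup.mk_pow, hj, pow_orderOf_eq_one]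
    rcases (Cfsg.Agent.S0246.mem_center_iff (by omega) _).1 h1 with h | h
    · exact h
    · exact absurd h (hg2 j)

end main

end Cfsg.Agent.Lib.Helper5.SpecBC
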