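import Mathlib
import Cfsg.Agent.Lib.Helper5.SpecBC.Wrap1

/-!
`Ω_{2n+1}(q)` has no element of order `p (q^(n-1) + 1)`: main argument.
-/

set_option autoImplicit false
set_option maxHeartbeats 1000000

namespace Cfsg.Agent.Lib.Helper5.SpecBC

open Module QuadraticMap Cfsg.Agent.Lib.Helper2 Cfsg.Agent.Lib.Helper2.CDG

variable {F : Type*} [Field F] [Fintype F]

/-- number-theoretic preparation: the Zsigmondy prime -/
theorem exists_ppd (hodd : Odd (Fintype.card F)) (n : ℕ) (hn : 3 ≤ n) :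
    ∃ r : ℕ, PPD (Fintype.card F) r (2 * n - 2) ∧ r ∣ Fintype.card F ^ (n - 1) + 1 := by
  set q := Fintype.card F with hq
  have hq1 : 1 < q := Fintype.one_lt_card
  obtain ⟨r, hrp, hrd, hrprim⟩ := Cfsg.Agent.S2904.result q (2 * n - 2) hq1 (by omega)
    (by
      rintro ⟨h, -⟩
      rw [h] at hodd
      exact absurd hodd (by decide))
    (by rintro ⟨h, -⟩; omega)
  have hppd : PPD q r (2 * n - 2) := ⟨hrp, by omega, hrd, hrprim⟩
  refine ⟨r, hppd, ?_⟩
  have hx1 : 1 ≤ q ^ (n - 1) := Nat.one_le_pow _ _ (by omega)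
  have hfac : q ^ (2 * n - 2) - 1 = (q ^ (n - 1) - 1) * (q ^ (n - 1) + 1) := by
    have h1 : 2 * n - 2 = (n - 1) + (n - 1) := by omega
    rw [h1, pow_add]
    have h2 : 1 ≤ q ^ (n - 1) * q ^ (n - 1) := Nat.mul_pos hx1 hx1
    zify [hx1, h2]
    ring
  rw [hfac] at hrd
  rcases (Nat.Prime.dvd_mul hrp).1 hrd with h | h
  · exact absurd h (hrprim (n - 1) (by omega) (by omega))
  · exact h

theorem omega_no_order (p : ℕ) [hp : Fact p.Prime] [CharP F p] (hodd : Odd (Fintype.card F))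
    (n : ℕ) (hn : 3 ≤ n) (Q : QuadraticForm F (Unit ⊕ (Fin n ⊕ Fin n) → F))
    (hQc : ∀ v, Q v = Cfsg.quadFormOdd n F v) (hQ : (polarBilin Q).Nondegenerate)
    (g : ↥(Cfsg.isometryGroup F ⇑Q)) (hg : g ∈ commutator ↥(Cfsg.isometryGroup F ⇑Q)) :
    orderOf g ≠ p * (Fintype.card F ^ (n - 1) + 1) := by
  classical
  intro hord
  have h2 : (2 : F) ≠ 0 := two_ne_zero_of_odd_card hodd
  set q := Fintype.card F with hq
  have hq1 : 1 < q := Fintype.one_lt_card
  have hq3 : 3 ≤ q := by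
    rcases hodd with ⟨k, hk⟩
    omega
  set N := q ^ (n - 1) + 1 with hN
  obtain ⟨r, hppd, hrN⟩ := exists_ppd hodd n hn
  have hrp := hppd.prime
  have hx9 : 9 ≤ q ^ (n - 1) := by
    calc 9 = 3 ^ 2 := by norm_num
      _ ≤ q ^ 2 := Nat.pow_le_pow_left hq3 2
      _ ≤ q ^ (n - 1) := Nat.pow_le_pow_right (by omega) (by omega)
  have hN2 : 2 < N := by omega
  have hpq : p ∣ q := by
    obtain ⟨⟨k, hk0⟩, -, hcardF⟩ := FiniteField.card F p
    rw [hq, hcardF]
    exact dvd_pow_self p (by simpa using hk0.ne')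
  have hpN : Nat.Coprime p N := by
    rw [Nat.Prime.coprime_iff_not_dvd hp.out]
    intro h3
    have h4 : p ∣ q ^ (n - 1) := dvd_pow hpq (by omega)
    have h5 : p ∣ N - q ^ (n - 1) := Nat.dvd_sub h3 h4
    have h6 : N - q ^ (n - 1) = 1 := by omega
    rw [h6] at h5
    exact hp.out.one_lt.ne' (Nat.dvd_one.1 h5)
  have hNF : (N : F) ≠ 0 := by
    intro h0
    have h3 : p ∣ N := (CharP.cast_eq_zero_iff F p N).1 h0
    have := Nat.Coprime.eq_one_of_dvd hpN h3
    exact hp.out.one_lt.ne' this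
  -- the three elements
  obtain ⟨c, hc⟩ := hrN
  replace hc : N = r * c := hc
  have hc0 : 0 < c := by
    rcases Nat.eq_zero_or_pos c with h | h
    · rw [h, mul_zero] at hc; omega
    · exact h
  set h := g ^ p with hh
  set u := g ^ N with hu
  set s := g ^ (p * c) with hs
  have hordh : orderOf h = N := by
    rw [hh, orderOf_pow_of_dvd hp.out.ne_zero (by rw [hord]; exact Dvd.intro _ rfl), hord,
      Nat.mul_div_cancel_left _ hp.out.pos]
  have hordu : orderOf u = p := by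
    rw [hu, orderOf_pow_of_dvd (by omega) (by rw [hord]; exact Dvd.intro_left _ rfl), hord,
      Nat.mul_div_cancel _ (by omega)]
  have hords : orderOf s = r := by
    rw [hs, orderOf_pow_of_dvd (Nat.mul_ne_zero hp.out.ne_zero hc0.ne')
      (by rw [hord, hc]; exact ⟨r, by ring⟩), hord, hc]
    have : p * (r * c) = r * (p * c) := by ring
    rw [this, Nat.mul_div_cancel _ (Nat.mul_pos hp.out.pos hc0)]
  have hcomm : ∀ a b : ℕ, Commute (g ^ a) (g ^ b) := fun a b => (Commute.refl g).pow_pow a b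
  -- linear maps
  have hsr : lin s ^ r = 1 := by rw [← lin_pow, ← hords, pow_orderOf_eq_one, lin_one]
  have hs1 : lin s ≠ 1 := by
    intro h1
    rw [← lin_one] at h1
    have h3 := lin_injective h1
    rw [h3, orderOf_one] at hords
    exact hrp.one_lt.ne' hords.symm
  have hup : lin u ^ p = 1 := by rw [← lin_pow, ← hordu, pow_orderOf_eq_one, lin_one]
  have hu1 : lin u ≠ 1 := by
    intro h1
    rw [← lin_one] at h1
    have h3 := lin_injective h1
    rw [h3, orderOf_one] at hordu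
    exact hp.out.one_lt.ne' hordu.symm
  have hhN : lin h ^ N = 1 := by rw [← lin_pow, ← hordh, pow_orderOf_eq_one, lin_one]
  have hNmin : ∀ j, lin h ^ j = 1 → N ∣ j := by
    intro j hj
    rw [← lin_pow, ← lin_one] at hj
    rw [← hordh]
    exact orderOf_dvd_of_pow_eq_one (lin_injective hj)
  have hcard : Fintype.card (Unit ⊕ (Fin n ⊕ Fin n)) = 2 * n + 1 := by
    simp only [Fintype.card_sum, Fintype.card_unit, Fintype.card_fin]
    ring
  have hdim : finrank F (Unit ⊕ (Fin n ⊕ Fin n) → F) = (2 * n - 2) + 3 := by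
    rw [Module.finrank_fintype_fun_eq_card, hcard]
    omega
  have hhmem : h ∈ commutator ↥(Cfsg.isometryGroup F ⇑Q) := Subgroup.pow_mem _ hg p
  obtain ⟨hdet, hsign⟩ := det_and_sign_of_mem h2 hQ (by rw [hcard]; omega) hhmem
  have hfix : ∃ x, x ≠ 0 ∧ lin h x = x := by
    obtain ⟨x, hx0, hx⟩ := exists_fixed_of_det_one hQ h2 (by rw [hcard]; exact ⟨n, rfl⟩) h hdet
    exact ⟨x, hx0, by rw [lin_apply]; exact hx⟩
  obtain ⟨hfixdim, hH1, hfree⟩ := core_main p h2 Q hQ hppd (by omega) hdim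
    (s := lin s) (h := lin h) (u := lin u) (lin_Q s) (lin_Q h) (lin_Q u) hsr hs1 hup hu1 hhN hNmin
    hNF hN2 (lin_commute (hcomm _ _)) (lin_commute (hcomm _ _)) (lin_commute (hcomm _ _)) hfix
  -- the permutation
  set π := Spinor.levPerm Q 1 h with hπ
  have hπpow : ∀ (j : ℕ) (x : {x : Unit ⊕ (Fin n ⊕ Fin n) → F // Q x = 1}),
      (((π ^ j) x : {x : Unit ⊕ (Fin n ⊕ Fin n) → F // Q x = 1}) :
        Unit ⊕ (Fin n ⊕ Fin n) → F) = (lin h ^ j) x.1 := by
    intro j x
    rw [hπ, ← map_pow, Spinor.levPerm_apply, ← lin_apply, lin_pow]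
  have hπN : π ^ N = 1 := by
    rw [hπ, ← map_pow, ← hordh, pow_orderOf_eq_one, map_one]
  have hπfix : ∀ x : {x : Unit ⊕ (Fin n ⊕ Fin n) → F // Q x = 1},
      π x = x ↔ x.1 ∈ fixS (lin s) := by
    intro x
    constructor
    · intro hx
      by_contra hnot
      have h3 : (lin h ^ 1) x.1 = x.1 := by
        rw [← hπpow, pow_one, hx]
      have := hfree x.1 hnot 1 h3
      have := Nat.le_of_dvd one_pos this
      omega
    · intro hx
      apply Subtype.ext
      have := hπpow 1 x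
      rw [pow_one, pow_one] at this
      rw [this, hH1 x.1 hx]
  have hπfree : ∀ x, π x ≠ x → ∀ j : ℕ, (π ^ j) x = x → N ∣ j := by
    intro x hx j hj
    have hnot : x.1 ∉ fixS (lin s) := fun hmem => hx ((hπfix x).2 hmem)
    apply hfree x.1 hnot j
    rw [← hπpow, hj]
  have hNeven : Even N := by
    have : Odd (q ^ (n - 1)) := hodd.pow
    exact Odd.add_one this
  obtain ⟨m, hm, hsgn⟩ := Cfsg.Agent.Lib.Lead.S2362a.sign_of_uniform_cycles π N hNeven (by omega) hπN hπfree
  -- counts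
  have hcardX : Fintype.card {x : Unit ⊕ (Fin n ⊕ Fin n) → F // Q x = 1} =
      q ^ (2 * n) + q ^ n := by
    rw [← Nat.card_eq_fintype_card, ← card_level_odd hodd n]
    exact Nat.card_congr (Equiv.subtypeEquivRight (fun v => by rw [hQc v]))
  have hcardfix : (Finset.univ.filter (fun x : {x : Unit ⊕ (Fin n ⊕ Fin n) → F // Q x = 1} =>
      π x = x)).card = Nat.card {y : fixS (lin s) // (Q.comp (fixS (lin s)).subtype) y = 1} := by
    rw [← Fintype.card_subtype, ← Nat.card_eq_fintype_card]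
    apply Nat.card_congr
    exact
      { toFun := fun x => ⟨⟨x.1.1, (hπfix x.1).1 x.2⟩, x.1.2⟩
        invFun := fun y => ⟨⟨y.1.1, y.2⟩, (hπfix ⟨y.1.1, y.2⟩).2 y.1.2⟩
        left_inv := fun x => rfl
        right_inv := fun y => rfl }
  have hQ₀ := nondeg_fixS Q hQ (lin_Q s) hsr hppd.cast_ne_zero
  have hk := Cfsg.Agent.Lib.Helper1.QuadLevel3.card_level_three hodd (Q.comp (fixS (lin s)).subtype)
    hQ₀ hfixdim
  rw [hcardfix, hcardX] at hm
  -- arithmetic
  obtain ⟨w, hw⟩ : ∃ w, q = w + 1 := ⟨q - 1, by omega⟩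
  obtain ⟨y, hy⟩ : ∃ y, q ^ (n - 1) = y + 1 := ⟨q ^ (n - 1) - 1, by omega⟩
  have hweven : Even w := by
    rcases hodd with ⟨k, hk⟩
    exact ⟨k, by omega⟩
  have hyeven : Even y := by
    have : Odd (q ^ (n - 1)) := hodd.pow
    rcases this with ⟨k, hk⟩
    exact ⟨k, by omega⟩
  have hqn : q ^ n = q * q ^ (n - 1) := by
    rw [← pow_succ']; congr 1; omega
  have hq2n : q ^ (2 * n) = q ^ 2 * (q ^ (n - 1)) ^ 2 := by
    rw [← pow_mul, ← pow_add]; congr 1; omega
  have hcop : Nat.Coprime (y + 2) (w + 1) := by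
    have h3 : y + 2 = N := by omega
    rw [h3, ← hw]
    apply Nat.Coprime.symm
    apply Nat.Coprime.symm
    rw [hN]
    have h4 : Nat.Coprime (q ^ (n - 1)) q → Nat.Coprime (q ^ (n - 1) + 1) q := by
      intro _
      have h5 : Nat.Coprime (q ^ (n - 1) + 1) (q ^ (n - 1)) := by simp
      have h6 : q ∣ q ^ (n - 1) := dvd_pow_self q (by omega)
      exact Nat.Coprime.coprime_dvd_right h6 h5
    by_cases h7 : Nat.Coprime (q ^ (n - 1)) q
    · exact h4 h7
    · have h5 : Nat.Coprime (q ^ (n - 1) + 1) (q ^ (n - 1)) := by simp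
      have h6 : q ∣ q ^ (n - 1) := dvd_pow_self q (by omega)
      exact Nat.Coprime.coprime_dvd_right h6 h5
  have hmodd : Odd m := by
    apply odd_of_cycle_count hweven hyeven (by omega) hcop (k := Nat.card
      {y : fixS (lin s) // (Q.comp (fixS (lin s)).subtype) y = 1})
    · rcases hk with hk | hk
      · left; rw [hk, ← hq, hw]
      · right
        rw [hk, ← hq, hw]
        have : (w + 1) ^ 2 = (w + 1) * w + (w + 1) := by ring
        rw [this, Nat.add_sub_cancel]
    · have h3 : y + 2 = N := by omega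
      rw [h3, hm, hq2n, hqn, hy, hw]
  rw [hmodd.neg_one_pow] at hsgn
  rw [hsgn] at hsign
  exact absurd hsign (by decide)

end Cfsg.Agent.Lib.Helper5.SpecBC
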