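import Mathlib
import Cfsg.Agent.Lib.Helper5.SpecBC.Wrap2
import Cfsg.Agent.Lib.Helper5.SpecBC.Sp2
import Cfsg.Agent.Lib.Helper2.CentOmega6
import Cfsg.Agent.Lib.Helper2.OrthCard1

/-!
`p (q^(n-1) + 1)` is not the order of an element of `PΩ_{2n+1}(q)`.
-/

set_option autoImplicit false

namespace Cfsg.Agent.Lib.Helper5.SpecBC

open Module QuadraticMap Cfsg.Agent.Lib.Helper2 Cfsg.Agent.Lib.Helper2.CDG

variable {F : Type*} [Field F] [Fintype F]

theorem pomega_no_order (p : ℕ) [hp : Fact p.Prime] [CharP F p] (hodd : Odd (Fintype.card F))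
    (n : ℕ) (hn : 3 ≤ n) (Qf : (Unit ⊕ (Fin n ⊕ Fin n) → F) → F)
    (Q : QuadraticForm F (Unit ⊕ (Fin n ⊕ Fin n) → F)) (hQf : ⇑Q = Qf)
    (hQc : ∀ v, Q v = Cfsg.quadFormOdd n F v) (hQ : (polarBilin Q).Nondegenerate) :
    p * (Fintype.card F ^ (n - 1) + 1) ∉ Set.range (orderOf : Cfsg.POmega F Qf → ℕ) := by
  classical
  subst hQf
  have h2 : (2 : F) ≠ 0 := two_ne_zero_of_odd_card hodd
  have hcard : Fintype.card (Unit ⊕ (Fin n ⊕ Fin n)) = 2 * n + 1 := by
    simp only [Fintype.card_sum, Fintype.card_unit, Fintype.card_fin]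
    ring
  rintro ⟨x, hx⟩
  obtain ⟨g, rfl⟩ := QuotientGroup.mk_surjective x
  -- the centre of Ω is trivial
  have hneg : Spinor.negOne Q ∉ Cfsg.Omega F ⇑Q := by
    intro hmem
    have h1 := (det_and_sign_of_mem h2 hQ (by rw [hcard]; omega) hmem).1
    rw [Spinor.negOne_coe, Matrix.det_neg, Matrix.det_one, mul_one, hcard,
      Odd.neg_one_pow ⟨n, rfl⟩] at h1
    apply h2
    linear_combination -h1
  have hcen : Nat.card ↥(Subgroup.center ↥(Cfsg.Omega F ⇑Q)) = 1 :=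
    CentO.card_center_of_not hQ (by rw [hcard]; omega) (Or.inr hneg)
  have hbot : Subgroup.center ↥(Cfsg.Omega F ⇑Q) = ⊥ := Subgroup.card_eq_one.1 hcen
  have hinj : Function.Injective
      (QuotientGroup.mk' (Subgroup.center ↥(Cfsg.Omega F ⇑Q))) := by
    rw [← MonoidHom.ker_eq_bot_iff, QuotientGroup.ker_mk', hbot]
  have hord : orderOf (g : ↥(Cfsg.isometryGroup F ⇑Q)) =
      p * (Fintype.card F ^ (n - 1) + 1) := by
    rw [Subgroup.orderOf_coe, ← hx]
    exact (orderOf_injective _ hinj g).symm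
  exact omega_no_order p hodd n hn Q hQc hQ g.1 g.2 hord

end Cfsg.Agent.Lib.Helper5.SpecBC
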